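import Cfsg.Agent.H564.EPF.OwnG
import Cfsg.Agent.H628.EPX.Desc
import Cfsg.Agent.H424.EPX.Canon
import Cfsg.Agent.KFacts.TwF4.Perf
import Cfsg.Agent.H42.Deg.F4Levi
import Cfsg.Agent.H42.Deg.F4LeviB
import Cfsg.Agent.S5748
import Cfsg.Agent.S0205
import Cfsg.Agent.ThreePrime.Main
import Cfsg.Agent.H240.BalTwF.Plus
import Cfsg.Agent.H542.EPX.Cells
import Cfsg.Agent.H742.EX.NoS

/-!
# S5745, `²F₄(q)`: no socle `T ^ k`, `k ≥ 2`, `T` not of characteristic two (helper371)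

`T × T ≤ G`, `T` centralises a Sylow 2-subgroup of the second factor, so `T` lies in a proper parabolic subgroup
(Borel–Tits), hence `T` embeds in `L₂(q)` or has order prime to three, i.e. `T` is `L₂(2 ^ n)` or a Suzuki group.

* `of_PP`, `of_PB` : the simple subgroups of the two maximal parabolic subgroups;
* `crossK_tf4` : `CrossK 2 ²F₄(q)`.
-/

set_option autoImplicit false
set_option linter.unusedSectionVars false

namespace Cfsg.Agent.H371.EPF

open Cfsg Cfsg.Agent.KFacts.TwF4 Cfsg.Agent.KFacts.TwF4.Full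
open Cfsg.Agent.SplitTwo Cfsg.Agent.SplitTwo.ZS Cfsg.Agent.TitsThree.RankTwoZ
open Cfsg.Agent.SplitTwo.RootSysZ Subgroup
open Cfsg.Agent.H42.Deg Cfsg.Agent.H42.Deg.F4

universe u

variable {F : Type} [Field F] {σ : F →+* F} {G : Type u} [Group G] (S : Full σ G)

theorem not_solv {T : Type*} [Group T] [IsSimpleGroup T] (hT : ∃ a b : T, a * b ≠ b * a) : ¬ Group.IsSolvable T := by
  intro hs
  obtain ⟨a, b, hab⟩ := hT
  exact hab (IsSimpleGroup.comm_iff_isSolvable.2 hs a b)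

section par

variable [Finite F] [Finite G] (hF : ∃ c : Fˣ, c ≠ 1) (hR : S.R.p = 2)

include hF hR

theorem norm_le_PP : normalizer (J S.XZ 2 8 : Set G) ≤ PP S := by
  intro g hg
  have hB : J S.XZ 1 8 ⊔ S.T ≤ PP S := sup_le ((J_mono (by norm_num) (by norm_num)).trans (J_le_PP S)) (T_le_PP S)
  by_cases hgB : g ∈ J S.XZ 1 8 ⊔ S.T
  · exact hB hgB
  · obtain ⟨⟨u, hu, β, hβ, rfl⟩, -⟩ := H628.EPX.desc_one S hR hg hgB
    exact mul_mem (mul_mem (hB (mem_sup_left hu)) (LO_le_PP S S.n1_mem_LO)) (hB hβ)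

theorem norm_le_PB : normalizer (J S.XZ 1 7 : Set G) ≤ F4B.PB S := by
  intro g hg
  have hB : J S.XZ 1 8 ⊔ S.T ≤ F4B.PB S :=
    sup_le ((J_mono (by norm_num) (by norm_num)).trans (F4B.J_le_PB S)) (F4B.T_le_PB S)
  by_cases hgB : g ∈ J S.XZ 1 8 ⊔ S.T
  · exact hB hgB
  · obtain ⟨⟨u, hu, β, hβ, rfl⟩, -⟩ := H628.EPX.desc_two S hR hg hgB
    exact mul_mem (mul_mem (hB (mem_sup_left hu)) (F4B.L4_le_PB S (Cfsg.Agent.KFacts.TwF4.Irr.n2_mem_L4 S))) (hB hβ)

/-- **simple subgroups of the first parabolic subgroup** -/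
theorem of_PP {T : Type} [Group T] [Finite T] [IsSimpleGroup T] (hT : ∃ a b : T, a * b ≠ b * a) (f : T →* G)
    (hf : Function.Injective f) (hP : ∀ t, f t ∈ PP S) : IsLieTypeChar 2 T := by
  obtain ⟨π, h1, h2⟩ := exists_proj (LO_le_PP S) (N1_le_PP S) (fun x hx y hy => N1_norm S hx hy)
    (fun x hx hx' => LO_inf_N1 S hF hx hx') (fun x hx => PP_form S hx)
  have hch : CharP F 2 := CharTwo.of_one_ne_zero_of_two_eq_zero one_ne_zero S.two
  obtain ⟨e⟩ := H240.BalTwF.nonempty_LO S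
  let g : T →* Matrix.SpecialLinearGroup (Fin 2) F := e.toMonoidHom.comp (π.comp (f.codRestrict (PP S) hP))
  have hg : Function.Injective g := by
    rw [← MonoidHom.ker_eq_bot_iff]
    rcases (inferInstance : g.ker.Normal).eq_bot_or_eq_top with h3 | h3
    · exact h3
    · exfalso
      apply not_solv hT
      have h4 : ∀ t, f t ∈ N1 S := by
        intro t
        have h5 : g t = 1 := by
          have : t ∈ g.ker := by rw [h3]; exact mem_top _
          exact this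
        have h6 : π ⟨f t, hP t⟩ = 1 := by
          apply e.injective
          rw [map_one]
          exact h5
        obtain ⟨l, hl, n, hn, h7⟩ := PP_form S (hP t)
        have h8 : (⟨f t, hP t⟩ : PP S) = ⟨l, LO_le_PP S hl⟩ * ⟨n, N1_le_PP S hn⟩ := Subtype.ext h7
        rw [h8, map_mul, h1 l hl, h2 n hn, mul_one] at h6
        have h9 : l = 1 := congrArg Subtype.val h6
        rw [h7, h9, one_mul]
        exact hn
      have h5 := Cfsg.Agent.KFacts.TwF4.Perf.BT_solvable S hR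
      have h6 : N1 S ≤ J S.XZ 1 8 ⊔ S.T := sup_le ((ZJ_le_T S).trans le_sup_right)
        ((J_mono (by norm_num) le_rfl).trans le_sup_left)
      exact Group.isSolvable_of_isSolvable_injective (f := f.codRestrict (J S.XZ 1 8 ⊔ S.T) fun t => h6 (h4 t))
        (by
          intro a b hab
          exact hf (congrArg Subtype.val hab))
  have hCT : S5748.CT T := S5748.CT.of_injective g hg S5748.SL_CT
  obtain ⟨F0, i1, i2, n, hn, hc, ⟨e0⟩⟩ := (S5748.result (G := T) (fun h => by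
    obtain ⟨a, b, hab⟩ := hT
    exact hab (h.is_comm.comm a b))).1 hCT
  have hch0 : CharP F0 2 := by
    have hp2 : Fact (Nat.Prime 2) := ⟨Nat.prime_two⟩
    obtain ⟨p, hp⟩ := CharP.exists F0
    have hpp : Fact p.Prime := ⟨CharP.char_is_prime F0 p⟩
    obtain ⟨⟨m, hm⟩, -, hc'⟩ := FiniteField.card F0 p
    simp only [PNat.mk_coe] at hc'
    rw [hc'] at hc
    have h1 : p ∣ 2 ^ n := hc ▸ dvd_pow_self p hm.ne'
    have h2 : p = 2 := (Nat.prime_dvd_prime_iff_eq hpp.out Nat.prime_two).1 (hpp.out.dvd_of_dvd_pow h1)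
    rwa [h2] at hp
  refine Or.inl ⟨F0, i1, i2, hch0, 2, le_rfl, fun _ => ?_, ⟨e0⟩⟩
  rw [hc]
  calc 4 = 2 ^ 2 := by norm_num
    _ ≤ 2 ^ n := Nat.pow_le_pow_right (by norm_num) hn

/-- **simple subgroups of the second parabolic subgroup** -/
theorem of_PB (hq : Nat.card F % 3 = 2) {T : Type} [Group T] [Finite T] [IsSimpleGroup T]
    (hT : ∃ a b : T, a * b ≠ b * a) (f : T →* G) (hf : Function.Injective f) (hP : ∀ t, f t ∈ F4B.PB S) :
    IsLieTypeChar 2 T := by
  have h1 : Nat.card T ∣ Nat.card (F4B.PB S) :=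
    Subgroup.card_dvd_of_injective (f.codRestrict (F4B.PB S) hP) fun a b hab => hf (congrArg Subtype.val hab)
  have h3 : ¬ 3 ∣ Nat.card (F4B.PB S) := by
    have hp2 : Fact (Nat.Prime 2) := ⟨Nat.prime_two⟩
    have h17 : IsPGroup 2 (J S.XZ 1 7) := (H424.EPX.U_two S hF hR).to_le (J_mono le_rfl (by norm_num))
    obtain ⟨k, hk⟩ := IsPGroup.iff_card.1 h17
    rw [F4B.card_PB S hF, hk, Nat.card_units]
    intro h
    have hq1 : 1 ≤ Nat.card F := by omega
    obtain ⟨c, hc⟩ : ∃ c, Nat.card F = 3 * c + 2 := ⟨Nat.card F / 3, by omega⟩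
    have p3 := Nat.prime_three
    rw [hc] at h
    rcases (Nat.Prime.dvd_mul p3).1 h with h | h
    · rcases (Nat.Prime.dvd_mul p3).1 h with h | h
      · rcases (Nat.Prime.dvd_mul p3).1 h with h | h
        · rcases (Nat.Prime.dvd_mul p3).1 h with h | h <;> omega
        · omega
      · have e : (3 * c + 2) * (3 * c + 2) + 1 = 3 * (3 * c * c + 4 * c + 1) + 2 := by ring
        rw [e] at h
        omega
    · rcases (Nat.Prime.dvd_mul p3).1 h with h | h
      · omega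
      · have := (Nat.prime_dvd_prime_iff_eq p3 Nat.prime_two).1 (p3.dvd_of_dvd_pow h)
        omega
  have h4 := ThreePrime.Main.isoSuzuki (G := T) hT fun h => h3 (h.trans h1)
  exact Or.inr (Or.inr (Or.inr (Or.inr (Or.inr (Or.inr (Or.inr (Or.inr (Or.inl ⟨rfl, h4⟩))))))))

end par

open Cfsg.Agent.H284 Cfsg.Agent.H209.EPX Cfsg.Agent.H742.EX Cfsg.Agent.H564.EPF in
/-- **a simple subgroup which centralises a nontrivial 2-subgroup** -/
theorem of_cent {K : Type} [Field K] [Fintype K] {m : ℕ} (hm : 1 ≤ m) (hK : Fintype.card K = 2 ^ (2 * m + 1))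
    {T : Type} [Group T] [Finite T] [IsSimpleGroup T] (hT : ∃ a b : T, a * b ≠ b * a)
    (f : T →* ↥(Lie.twistedF4 K (2 ^ m))) (hf : Function.Injective f) {Q : Subgroup ↥(Lie.twistedF4 K (2 ^ m))}
    (hQ : IsPGroup 2 Q) (hQ1 : Q ≠ ⊥) (hc : ∀ t, f t ∈ normalizer (Q : Set ↥(Lie.twistedF4 K (2 ^ m)))) :
    IsLieTypeChar 2 T := by
  have : CharP K 2 := Cfsg.Agent.ChevalleyStructure.TwF4.Twisted.charP_two hK
  have hp2 : Fact (Nat.Prime 2) := ⟨Nat.prime_two⟩
  obtain ⟨φ, hφ⟩ := Cfsg.Agent.ChevalleyStructure.TwF4.TwistedFix.exists_rln hK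
  have : Finite ↥(Lie.twistedF4 K (2 ^ m)) := inferInstance
  have hFc : Nat.card K = 2 ^ (2 * m + 1) := by rw [Nat.card_eq_fintype_card, hK]
  have h8 : 8 ≤ Nat.card K := by
    rw [hFc]
    calc 8 = 2 ^ 3 := by norm_num
      _ ≤ _ := Nat.pow_le_pow_right (by norm_num) (by omega)
  have hF : ∃ c : Kˣ, c ≠ 1 := by
    have h1 : 1 < Nat.card Kˣ := by
      rw [Nat.card_units]
      omega
    have h2 : Nontrivial Kˣ := Finite.one_lt_card_iff_nontrivial.1 h1
    exact exists_ne 1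
  have hq : Nat.card K % 3 = 2 := by
    rw [hFc, pow_succ, pow_mul, Nat.mul_mod, Nat.pow_mod]
    norm_num
  let S := Cfsg.Agent.KFacts.TwF4.Inst.full hK hφ
  have hR : S.R.p = 2 := rfl
  obtain ⟨P, hP⟩ := Cfsg.Agent.KFacts.TwF4.SylU.exists_sylow S hF rfl
  let D : OD ↥(Lie.twistedF4 K (2 ^ m)) := ofFull S (opp hK hφ)
  have hU : D.U = (P : Subgroup ↥(Lie.twistedF4 K (2 ^ m))) := hP.symm
  have h2 : IsPGroup 2 D.U := by rw [hU]; exact P.isPGroup'
  have hs : ∀ R : Subgroup ↥(Lie.twistedF4 K (2 ^ m)), D.U ≤ R → IsPGroup 2 R → R = D.U := by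
    intro R hR hR2
    rw [hU] at hR ⊢
    exact P.is_maximal' hR2 hR
  obtain ⟨g₀, hg₀⟩ := OD.exists_le_cj h2 hs hQ
  obtain ⟨g, J', hJ', -, h3⟩ := OD.bt hQ1 hg₀
  -- the conjugate embedding
  let f' : T →* ↥(Lie.twistedF4 K (2 ^ m)) := (MulAut.conj g⁻¹).toMonoidHom.comp f
  have hf' : Function.Injective f' := (MulAut.conj g⁻¹).injective.comp hf
  have h4 : ∀ t, f' t ∈ D.P J' := by
    intro t
    have h5 := h3 (hc t)
    rw [mem_cj] at h5
    show g⁻¹ * f t * g⁻¹⁻¹ ∈ D.P J'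
    rw [inv_inv]
    exact h5
  obtain ⟨j, hj⟩ : ∃ j : Fin 2, D.P J' ≤ D.P {j} := by
    rcases OD.cases4 J' with h | ⟨j, h⟩ | h
    · exact ⟨0, OD.P_mono (by rw [h]; exact Set.empty_subset _)⟩
    · exact ⟨j, by rw [h]⟩
    · exact absurd h hJ'
  fin_cases j
  · refine of_PP S hF hR hT f' hf' fun t => norm_le_PP S hF hR ?_
    have h6 := hj (h4 t)
    rw [OD.P_single] at h6
    exact h6
  · refine of_PB S hF hR hq hT f' hf' fun t => norm_le_PB S hF hR ?_
    have h6 := hj (h4 t)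
    rw [OD.P_single] at h6
    exact h6

open Cfsg.Agent.H284 Cfsg.Agent.H209.EPX Cfsg.Agent.H742.EX in
/-- **the cell `crossk` of `²F₄(q)`** -/
theorem crossK_tf4 (K : Type) [Field K] [Fintype K] (m : ℕ) [IsSimpleGroup ↥(Lie.twistedF4 K (2 ^ m))] (hm : 1 ≤ m)
    (hK : Fintype.card K = 2 ^ (2 * m + 1)) : H542.EPX.CrossK 2 ↥(Lie.twistedF4 K (2 ^ m)) := by
  intro H N T _ k e hk h hT
  apply hT
  have hp2 : Fact (Nat.Prime 2) := ⟨Nat.prime_two⟩
  have hfin : Finite ↥(Lie.twistedF4 K (2 ^ m)) := inferInstance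
  have : Finite T := by
    have : Finite (Fin k → T) := Finite.of_equiv _ e.toEquiv
    exact Finite.of_surjective (co e ⟨0, h.pos⟩) (co_surj e _)
  have := h.simple
  have h01 : (⟨1, by omega⟩ : Fin k) ≠ ⟨0, h.pos⟩ := fun h => by simpa using congrArg Fin.val h
  let f0 : T →* ↥(Lie.twistedF4 K (2 ^ m)) := N.subtype.comp (fa e ⟨0, h.pos⟩)
  let f1 : T →* ↥(Lie.twistedF4 K (2 ^ m)) := N.subtype.comp (fa e ⟨1, by omega⟩)
  have hinj : ∀ i, Function.Injective (N.subtype.comp (fa e i)) := by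
    intro i a b hab
    have h1 : fa e i a = fa e i b := Subtype.ext hab
    rw [← co_fa e i a, h1, co_fa]
  have hcomm : ∀ s t, f0 s * f1 t = f1 t * f0 s := by
    intro s t
    have h1 : co e ⟨0, h.pos⟩ (fa e ⟨1, by omega⟩ t) = 1 := by
      simp [co, fa]
    have h2 := fa_comm e ⟨0, h.pos⟩ (t := s) (n := fa e ⟨1, by omega⟩ t) (by rw [h1, mul_one, one_mul])
    exact congrArg Subtype.val h2
  obtain ⟨Q⟩ : Nonempty (Sylow 2 T) := inferInstance
  have hev : 2 ∣ Nat.card T := by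
    by_contra hcon
    exact not_solv h.nab (Cfsg.Agent.S0205.result (by rw [← Nat.not_even_iff_odd, even_iff_two_dvd]; exact hcon))
  have hQ1 : (Q : Subgroup T) ≠ ⊥ := Q.ne_bot_of_dvd_card hev
  refine of_cent hm hK h.nab f0 (hinj _) (Q := (Q : Subgroup T).map f1) (Q.isPGroup'.map _) ?_ ?_
  · rw [Ne, Subgroup.map_eq_bot_iff_of_injective _ (hinj _)]
    exact hQ1
  · intro t
    rw [mem_normalizer_iff]
    intro y
    constructor
    · rintro ⟨x, hx, rfl⟩
      refine ⟨x, hx, ?_⟩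
      rw [hcomm, mul_inv_cancel_right]
    · rintro ⟨x, hx, hxy⟩
      refine ⟨x, hx, ?_⟩
      have h1 : y = (f0 t)⁻¹ * f1 x * f0 t := by
        rw [hxy]; group
      rw [h1, mul_assoc, ← hcomm, inv_mul_cancel_left]

end Cfsg.Agent.H371.EPF
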